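import Cfsg.Agent.H352.Sd.Tool
import Cfsg.Agent.Lib.FrattiniBasic
import Cfsg.Prelude.Def_Transfer

/-!
# S4579, part SP-H: `Elem` for an extension of an extraspecial group
-/

set_option autoImplicit false

namespace Cfsg.Agent.H443.Sd.Extra

open Cfsg.Agent.H643.Sd

open scoped commutatorElement

theorem elem_of_extra {C : Type*} [Group C] [Finite C] (Q : Subgroup C) [Q.Normal]
    (hQ : Cfsg.IsExtraspecial 2 Q) (hK : Elem (C ⧸ Q)) : Elem C := by
  have hp2 : Fact (Nat.Prime 2) := ⟨Nat.prime_two⟩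
  obtain ⟨⟨hp, hfr, hcom⟩, hZ⟩ := hQ
  obtain ⟨z, hz1, hzu⟩ := (Nat.card_eq_two_iff' (1 : Subgroup.center Q)).1 hZ
  have hcen : ∀ q : Q, q ∈ Subgroup.center Q → q = 1 ∨ q = z := by
    intro q hq
    by_cases h1 : (⟨q, hq⟩ : Subgroup.center Q) = 1
    · left; exact congrArg Subtype.val h1
    · right; exact congrArg Subtype.val (hzu ⟨q, hq⟩ h1)
  have hzc : (z : Q) ∈ Subgroup.center Q := z.2
  have hz1' : ((z : Q) : C) ≠ 1 := by
    intro h
    apply hz1
    apply Subtype.ext
    exact Subtype.ext h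
  have hcomm : ∀ x ∈ Q, ∀ y ∈ Q, x * y = y * x ∨ x * y = ((z : Q) : C) * (y * x) := by
    intro x hx y hy
    have h1 : ⁅(⟨x, hx⟩ : Q), (⟨y, hy⟩ : Q)⁆ ∈ Subgroup.center Q := by
      rw [← hcom, _root_.commutator_def]
      exact Subgroup.commutator_mem_commutator (Subgroup.mem_top _) (Subgroup.mem_top _)
    have h2 : x * y = ((⁅(⟨x, hx⟩ : Q), (⟨y, hy⟩ : Q)⁆ : Q) : C) * (y * x) := by
      show x * y = (x * y * x⁻¹ * y⁻¹) * (y * x)
      group
    rcases hcen _ h1 with h | h
    · left; rw [h2, h]; simp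
    · right; rw [h2, h]
  have hzcom : ∀ c, ((z : Q) : C) * c = c * ((z : Q) : C) := by
    intro c
    have hm : c * ((z : Q) : C) * c⁻¹ ∈ Q := Subgroup.Normal.conj_mem inferInstance _ (z : Q).2 c
    have h1 : (⟨c * ((z : Q) : C) * c⁻¹, hm⟩ : Q) ∈ Subgroup.center Q := by
      rw [Subgroup.mem_center_iff]
      intro q
      apply Subtype.ext
      show (q : C) * (c * ((z : Q) : C) * c⁻¹) = (c * ((z : Q) : C) * c⁻¹) * q
      have hm2 : c⁻¹ * (q : C) * c ∈ Q := by
        have := Subgroup.Normal.conj_mem (H := Q) inferInstance _ q.2 c⁻¹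
        rw [inv_inv] at this
        exact this
      have h2 := (Subgroup.mem_center_iff.1 hzc) ⟨c⁻¹ * (q : C) * c, hm2⟩
      have h3 : c⁻¹ * (q : C) * c * ((z : Q) : C) = ((z : Q) : C) * (c⁻¹ * (q : C) * c) :=
        congrArg Subtype.val h2
      calc (q : C) * (c * ((z : Q) : C) * c⁻¹) = c * (c⁻¹ * (q : C) * c * ((z : Q) : C)) * c⁻¹ := by group
        _ = c * (((z : Q) : C) * (c⁻¹ * (q : C) * c)) * c⁻¹ := by rw [h3]
        _ = _ := by group
    rcases hcen _ h1 with h | h
    · exfalso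
      have h2 : c * ((z : Q) : C) * c⁻¹ = 1 := congrArg Subtype.val h
      apply hz1'
      have h3 : ((z : Q) : C) = c⁻¹ * (c * ((z : Q) : C) * c⁻¹) * c := by group
      rw [h3, h2]; group
    · have h2 : c * ((z : Q) : C) * c⁻¹ = ((z : Q) : C) := congrArg Subtype.val h
      exact (mul_inv_eq_iff_eq_mul.1 h2).symm
  have hker : ∀ x : C, QuotientGroup.mk' Q x = 1 ↔ x ∈ Q := fun x => QuotientGroup.eq_one_iff x
  refine Cfsg.Agent.H352.Sd.elem_of_ker (QuotientGroup.mk' Q) (QuotientGroup.mk'_surjective Q)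
    (z := ((z : Q) : C)) hz1' ((hker _).2 (z : Q).2) hzcom ?_ ?_ ?_ ?_ hK
  · intro x hx
    rw [hker] at hx
    have h1 := Cfsg.Agent.Lib.FrattiniBasic.pow_mem_frattini hp (⟨x, hx⟩ : Q)
    rw [hfr, pow_two] at h1
    rcases hcen _ h1 with h | h
    · exact Or.inl (congrArg Subtype.val h)
    · exact Or.inr (congrArg Subtype.val h)
  · intro x y hx hy
    rw [hker] at hx hy
    rcases hcomm x hx y hy with h | h
    · exact Or.inl h
    · exact Or.inr (by rw [h, hzcom])
  · intro x hx hall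
    rw [hker] at hx
    have h1 : (⟨x, hx⟩ : Q) ∈ Subgroup.center Q := by
      rw [Subgroup.mem_center_iff]
      intro q
      exact Subtype.ext (hall q ((hker _).2 q.2)).symm
    rcases hcen _ h1 with h | h
    · exact Or.inl (congrArg Subtype.val h)
    · exact Or.inr (congrArg Subtype.val h)
  · by_contra hcon
    push Not at hcon
    have hall : ∀ q : Q, q ∈ Subgroup.center Q := by
      intro q
      by_cases h1 : (q : C) = 1
      · have : q = 1 := Subtype.ext h1
        rw [this]; exact one_mem _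
      · have : q = z := Subtype.ext (hcon q ((hker _).2 q.2) h1)
        rw [this]; exact hzc
    have hbot : _root_.commutator Q = ⊥ := by
      rw [_root_.commutator_def, eq_bot_iff, Subgroup.commutator_le]
      intro a _ b _
      rw [Subgroup.mem_bot, commutatorElement_eq_one_iff_mul_comm]
      exact (Subgroup.mem_center_iff.1 (hall b)) a
    rw [hbot] at hcom
    rw [← hcom, Subgroup.card_bot] at hZ
    omega

end Cfsg.Agent.H443.Sd.Extra
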