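import Cfsg.Agent.H443.Sd.Tool
import Cfsg.Agent.HN.TSyl
import Cfsg.Agent.HN.A12Group
import Cfsg.Agent.S1701

/-!
# S4579, part SP-H: the Sylow `2`-subgroups of the Harada-Norton group

`Pc s 14` is a Sylow `2`-subgroup, generated by four involutions.
-/

set_option autoImplicit false

namespace Cfsg.Agent.H443.Sd.HN

open Cfsg.Agent.H643.Sd Cfsg.Agent.H443.Sd.Tool Cfsg.Agent.HN.TGroup Cfsg.Agent.HN.PC Cfsg.Agent.HN.TSyl
open Cfsg.Agent.HN.Rep

universe u

theorem elem_hn {G : Type u} [Group G] [Finite G] (h : Cfsg.Spor.IsoHN G) : Elem G := by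
  obtain ⟨e⟩ := h
  have : Finite Cfsg.Spor.HN := Finite.of_equiv G e.toEquiv
  have hI := Cfsg.Agent.S1701.result
  have : IsSimpleGroup Cfsg.Spor.HN := hI.1
  have hinj : Function.Injective rho := Cfsg.Agent.HN.A12Group.rho_injective
  have hc := card_Pc14 hinj
  have hc2 : Nat.card Cfsg.Spor.HN = 2 ^ 14 * 16664484375 := by
    rw [hI.2]; norm_num
  have hdvd : ¬ 2 ∣ (Pc s 14).index := by
    have h1 := (Pc s 14).card_mul_index
    rw [hc, hc2] at h1
    have h2 : (Pc s 14).index = 16664484375 := Nat.eq_of_mul_eq_mul_left (by norm_num) h1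
    rw [h2]; norm_num
  have : Fact (Nat.Prime 2) := ⟨Nat.prime_two⟩
  let P : Sylow 2 Cfsg.Spor.HN := (IsPGroup.of_card hc).toSylow hdvd
  refine elem_of_equiv_sylow e P ?_
  change Lin2 (Pc s 14 : Subgroup Cfsg.Spor.HN)
  refine lin2_of_closure' (S := S4) ?_ closure_S4.ge ?_
  · rintro _ ⟨i, ⟨_, hi⟩, rfl⟩
    exact mem_Pc hi
  · rintro f _ ⟨i, ⟨h1, h2⟩, rfl⟩
    apply sq_eq_one_of_invol
    exact Subtype.ext (Cfsg.Agent.HN.TRel.sq_one hinj i h1 h2)

end Cfsg.Agent.H443.Sd.HN
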