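import Cfsg.Agent.H443.Sd.Split
import Cfsg.Agent.J4Type.Final
import Cfsg.Agent.S1703

/-!
# S4579, part SP-H: the Sylow `2`-subgroups of `J4`

The subgroup `2^11:M24` has odd index.
-/

set_option autoImplicit false

namespace Cfsg.Agent.H443.Sd.J4

open Cfsg.Agent.H643.Sd Cfsg.Agent.H443.Sd.Tool Cfsg.Agent.H443.Sd.Split
open Cfsg.Agent.J4.Invol (EJ)
open Cfsg.Agent.J4.Pres (phi)

universe u

theorem card_sylow_M24 (S : Sylow 2 Cfsg.M24) : Nat.card S = 2 ^ 10 := by
  have : Fact (Nat.Prime 2) := ⟨Nat.prime_two⟩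
  rw [S.card_eq_multiplicity, Cfsg.Agent.SporadicA.M24Trans.card_M24]
  congr 1
  have h : (244823040 : ℕ) = 2 ^ 10 * 239085 := by norm_num
  rw [h, Nat.factorization_mul (by norm_num) (by norm_num), Nat.Prime.factorization_pow Nat.prime_two]
  rw [Finsupp.add_apply, Finsupp.single_eq_same, Nat.factorization_eq_zero_of_not_dvd (by norm_num)]

theorem elem_J4 [Finite Cfsg.Spor.J4] (hM : Elem Cfsg.M24) : Elem Cfsg.Spor.J4 := by
  have hJ := Cfsg.Agent.S1703.result
  have hinj := Cfsg.Agent.J4Type.Final.rho_injective hJ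
  have hs : IsSimpleGroup Cfsg.M24 := Cfsg.Agent.S0365.result
  have hEc := Cfsg.Agent.J4.Invol.card_EJ hinj
  have hMc := Cfsg.Agent.SporadicA.M24Trans.card_M24
  have hxne : phi Cfsg.Agent.J4.M24Hom.XM ≠ 1 := by
    intro h
    apply Cfsg.Agent.J4.Lower.xg_ne
    have h1 := congrArg Cfsg.Agent.J4.Rep112.rho h
    rw [map_one, Cfsg.Agent.J4.Pres.phi_X] at h1
    exact h1
  refine elem_of_split_card EJ (Cfsg.Agent.J4.Invol.EJ_sq hinj) phi
    Cfsg.Agent.J4Type.ClosingJ4.phi_mem_normalizer ?_ ?_ hM
  · have hn : (EJ.comap phi).Normal := by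
      constructor
      intro a ha g
      change phi (g * a * g⁻¹) ∈ EJ
      rw [map_mul, map_mul, map_inv]
      exact (Subgroup.mem_normalizer_iff.1 (Cfsg.Agent.J4Type.ClosingJ4.phi_mem_normalizer g) _).1 ha
    rcases hn.eq_bot_or_eq_top with h | h
    · intro x hx
      have : x ∈ EJ.comap phi := hx
      rw [h, Subgroup.mem_bot] at this
      exact this
    · exfalso
      have h1 : ∀ a b : Cfsg.M24, phi (a * b) = phi (b * a) := by
        intro a b
        have ha : a ∈ EJ.comap phi := h ▸ Subgroup.mem_top _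
        have hb : b ∈ EJ.comap phi := h ▸ Subgroup.mem_top _
        rw [map_mul, map_mul]
        exact Cfsg.Agent.J4.Invol.EJ_comm hinj _ _ ha hb
      have h2 : ∀ a : Cfsg.M24, phi a = 1 → a = 1 := by
        have h3 : phi.ker = ⊥ := by
          rcases (inferInstance : phi.ker.Normal).eq_bot_or_eq_top with h | h
          · exact h
          · exfalso
            apply hxne
            rw [← MonoidHom.mem_ker, h]
            exact Subgroup.mem_top _
        intro a ha
        rw [← MonoidHom.mem_ker, h3, Subgroup.mem_bot] at ha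
        exact ha
      have h3 : Nat.card EJ < Nat.card Cfsg.M24 := by rw [hEc, hMc]; norm_num
      have h4 : Nat.card Cfsg.M24 ≤ Nat.card EJ := by
        refine Nat.card_le_card_of_injective
          (fun a : Cfsg.M24 => (⟨phi a, by
            have ha : a ∈ EJ.comap phi := h ▸ Subgroup.mem_top _
            exact ha⟩ : EJ)) ?_
        intro a b hab
        have h5 : phi a = phi b := congrArg Subtype.val hab
        have h6 := h2 (a * b⁻¹) (by rw [map_mul, map_inv, h5, mul_inv_cancel])
        exact mul_inv_eq_one.1 h6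
      omega
  · intro S
    rw [hEc, card_sylow_M24, hJ.2]
    norm_num

theorem elem_j4_of {G : Type u} [Group G] [Finite G] (hM : Elem Cfsg.M24) (h : Cfsg.Spor.IsoJ4 G) : Elem G := by
  obtain ⟨e⟩ := h
  have : Finite Cfsg.Spor.J4 := Finite.of_equiv G e.toEquiv
  exact elem_of_iso e (elem_J4 hM)

end Cfsg.Agent.H443.Sd.J4
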