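import Cfsg.Agent.H443.Sd.Tool
import Cfsg.Agent.J4.GroupLemmas

/-!
# S4579, part SP-H: `Elem` for a group with a subgroup `E.X` of odd index, `E` of exponent two

-/

set_option autoImplicit false

namespace Cfsg.Agent.H443.Sd.Split

open Cfsg.Agent.H643.Sd Cfsg.Agent.H443.Sd.Tool

/-- a group with a subgroup `E` of exponent two and a complement `φ(X)`, with `E.φ(X)` of odd index -/
theorem elem_of_split_card {G X : Type*} [Group G] [Group X] [Finite G] [Finite X] (E : Subgroup G)
    (hE : ∀ e ∈ E, e * e = 1) (φ : X →* G) (hφ : ∀ x, φ x ∈ Subgroup.normalizer (E : Set G))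
    (hd : ∀ x, φ x ∈ E → x = 1)
    (hc : ∀ S : Sylow 2 X, ¬ 2 * (Nat.card E * Nat.card S) ∣ Nat.card G) (hX : Elem X) : Elem G := by
  have : Fact (Nat.Prime 2) := ⟨Nat.prime_two⟩
  obtain ⟨S⟩ : Nonempty (Sylow 2 X) := inferInstance
  have hinj : Function.Injective φ := by
    rw [injective_iff_map_eq_one]
    intro x hx
    exact hd x (hx ▸ E.one_mem)
  set K : Subgroup G := (S : Subgroup X).map φ with hK
  have hKn : K ≤ Subgroup.normalizer (E : Set G) := by
    rintro _ ⟨x, -, rfl⟩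
    exact hφ x
  have hEp : IsPGroup 2 E := by
    intro e
    refine ⟨1, Subtype.ext ?_⟩
    have h1 := hE e e.2
    change (e : G) ^ (2 ^ 1) = 1
    rw [pow_one, pow_two, h1]
  have hKp : IsPGroup 2 K := S.2.map φ
  have hP : IsPGroup 2 (E ⊔ K : Subgroup G) := hEp.to_sup_of_normal_left' hKp hKn
  have hi : E ⊓ K = ⊥ := by
    rw [eq_bot_iff]
    rintro _ ⟨h1, x, -, rfl⟩
    rw [hd x h1, map_one]
    exact Subgroup.one_mem _
  have hcK : Nat.card K = Nat.card S :=
    (Nat.card_congr ((S : Subgroup X).equivMapOfInjective φ hinj).toEquiv).symm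
  have hdvd := Cfsg.Agent.J4.GroupLemmas.card_mul_dvd E K hKn hi
  rw [hcK] at hdvd
  have hidx : ¬ 2 ∣ (E ⊔ K : Subgroup G).index := by
    intro h
    apply hc S
    rw [← (E ⊔ K : Subgroup G).card_mul_index, mul_comm]
    exact Nat.mul_dvd_mul hdvd h
  refine elem_of_sylow' (hP.toSylow hidx) ?_
  change Lin2 (E ⊔ K : Subgroup G)
  refine lin2_of_closure' (S := (E : Set G) ∪ K) ?_ ?_ ?_
  · rintro x (hx | hx)
    · exact Subgroup.mem_sup_left hx
    · exact Subgroup.mem_sup_right hx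
  · exact sup_le (fun x hx => Subgroup.subset_closure (Or.inl hx)) (fun x hx => Subgroup.subset_closure (Or.inr hx))
  · rintro f x (hx | hx)
    · exact sq_eq_one_of_invol f (Subtype.ext (hE x hx))
    · have hK2 : Lin2 K := lin2_congr ((S : Subgroup X).equivMapOfInjective φ hinj) (hX S)
      exact hK2 (f.comp (Subgroup.inclusion (le_sup_right : K ≤ E ⊔ K))) ⟨x, hx⟩

end Cfsg.Agent.H443.Sd.Split
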