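import Cfsg.Agent.H443.Sd.Tool
import Cfsg.Agent.H443.Sd.Extra
import Cfsg.Agent.Th.Main475
import Cfsg.Agent.S4623

/-!
# S4579, part SP-H: the Sylow `2`-subgroups of the Thompson group

`C(z) = 2^(1+8).A9` has odd index.
-/

set_option autoImplicit false

namespace Cfsg.Agent.H443.Sd.Th

open Cfsg.Agent.H643.Sd Cfsg.Agent.H443.Sd.Tool

universe u

theorem lin2_of_pow_mem {P : Type*} [Group P] (h : ∀ x : P, x ^ 2 ∈ commutator P) : Lin2 P := by
  intro f x
  have h1 : commutator P ≤ f.ker := Abelianization.commutator_subset_ker f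
  rw [← map_pow]
  exact h1 (h x)

theorem elem_alt (n : ℕ) : Elem (alternatingGroup (Fin n)) := by
  intro P
  have : Fact (Nat.Prime 2) := ⟨Nat.prime_two⟩
  exact lin2_of_pow_mem (Cfsg.Agent.S4623.result 2 n default P).2

theorem elem_Th [Finite Cfsg.Spor.Th] : Elem Cfsg.Spor.Th := by
  obtain ⟨z, -, Q, hQn, hQc, hQe, ⟨e⟩⟩ := Cfsg.Agent.Th.Main475.main
  have hcard := Cfsg.Agent.Th.Main1700.final.2.1
  refine Cfsg.Agent.H352.Sd.elem_of_odd_index (Subgroup.centralizer ({z} : Set Cfsg.Spor.Th)) ?_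
    (Cfsg.Agent.H443.Sd.Extra.elem_of_extra Q hQe ?_)
  · have h1 := (Subgroup.centralizer ({z} : Set Cfsg.Spor.Th)).card_mul_index
    have h2 := Q.card_mul_index
    have h3 : Q.index = 181440 := by
      rw [Subgroup.index_eq_card, Nat.card_congr e.toEquiv, nat_card_alternatingGroup]
      simp [Nat.factorial]
    rw [hQc, h3] at h2
    rw [hcard, ← h2] at h1
    have h4 : (Subgroup.centralizer ({z} : Set Cfsg.Spor.Th)).index = 976841775 :=
      Nat.eq_of_mul_eq_mul_left (by norm_num) (h1.trans (by norm_num))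
    rw [h4]
    decide
  · intro P
    exact elem_of_iso e (elem_alt 9) P

theorem elem_th {G : Type u} [Group G] [Finite G] (h : Cfsg.Spor.IsoTh G) : Elem G := by
  obtain ⟨e⟩ := h
  have : Finite Cfsg.Spor.Th := Finite.of_equiv G e.toEquiv
  exact elem_of_iso e elem_Th

end Cfsg.Agent.H443.Sd.Th
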