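import Cfsg.Agent.H643.Sd.Def

/-!
# S4579, part SP-H: transport of `Elem`

`elem_of_equiv_sylow`: `Elem G` from an isomorphism `G ≃* H` and one Sylow `2`-subgroup of `H`.
`lin2_of_closure'`: `Lin2 P` from generators.
-/

set_option autoImplicit false

namespace Cfsg.Agent.H443.Sd.Tool

open Cfsg.Agent.H643.Sd

theorem lin2_congr {P Q : Type*} [Group P] [Group Q] (e : P ≃* Q) (h : Lin2 P) : Lin2 Q := by
  intro f x
  have h1 := h (f.comp e.toMonoidHom) (e.symm x)
  simpa using h1

theorem lin2_of_surjective {P Q : Type*} [Group P] [Group Q] (φ : P →* Q) (hφ : Function.Surjective φ)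
    (h : Lin2 P) : Lin2 Q := by
  intro f x
  obtain ⟨y, rfl⟩ := hφ x
  exact h (f.comp φ) y

theorem elem_of_sylow' {G : Type*} [Group G] [Finite G] (P : Sylow 2 G) (h : Lin2 (P : Subgroup G)) : Elem G :=
  fun Q => lin2_congr (P.equiv Q) h

theorem elem_of_equiv_sylow {G H : Type*} [Group G] [Group H] [Finite H] (e : G ≃* H) (P : Sylow 2 H)
    (h : Lin2 (P : Subgroup H)) : Elem G := by
  intro Q
  have hQ : IsPGroup 2 ((Q : Subgroup G).map e.toMonoidHom) := Q.2.map _
  have h1 : ∀ K : Subgroup H, IsPGroup 2 K → (Q : Subgroup G).map e.toMonoidHom ≤ K →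
      K = (Q : Subgroup G).map e.toMonoidHom := by
    intro K hK hle
    have h2 : IsPGroup 2 (K.map e.symm.toMonoidHom) := hK.map _
    have h3 : (Q : Subgroup G) ≤ K.map e.symm.toMonoidHom := by
      intro x hx
      refine ⟨e x, hle ⟨x, hx, rfl⟩, ?_⟩
      simp
    have h4 := Q.is_maximal' h2 h3
    rw [← h4]
    ext y
    constructor
    · intro hy
      exact ⟨e.symm y, ⟨y, hy, rfl⟩, by simp⟩
    · rintro ⟨_, ⟨z, hz, rfl⟩, rfl⟩
      simpa using hz
  let R : Sylow 2 H := ⟨(Q : Subgroup G).map e.toMonoidHom, hQ, fun {K} hK hle => h1 K hK hle⟩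
  have h2 := elem_of_sylow' P h R
  have e2 : (Q : Subgroup G) ≃* (R : Subgroup H) := (Q : Subgroup G).equivMapOfInjective e.toMonoidHom e.injective
  exact lin2_congr e2.symm h2

theorem elem_of_iso {G H : Type*} [Group G] [Group H] [Finite H] (e : G ≃* H) (h : Elem H) : Elem G :=
  elem_of_equiv_sylow e default (h default)

/-- `Lin2` for a subgroup contained in the closure of elements on which the characters have order at most two -/
theorem lin2_of_closure' {G : Type*} [Group G] {P : Subgroup G} {S : Set G} (hS : S ⊆ P)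
    (hP : P ≤ Subgroup.closure S) (h : ∀ (f : P →* ℂˣ) (x : G) (hx : x ∈ S), f ⟨x, hS hx⟩ ^ 2 = 1) : Lin2 P := by
  intro f x
  have key : ∀ y ∈ Subgroup.closure S, ∀ hy : y ∈ P, f ⟨y, hy⟩ ^ 2 = 1 := by
    intro y hy
    induction hy using Subgroup.closure_induction with
    | mem y hy => intro _; exact h f y hy
    | one => intro hy; exact (congrArg (· ^ 2) (map_one f)).trans (one_pow 2)
    | mul a b ha hb iha ihb =>
      intro hab
      have ha' : a ∈ P := (Subgroup.closure_le P).2 hS ha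
      have hb' : b ∈ P := (Subgroup.closure_le P).2 hS hb
      have : (⟨a * b, hab⟩ : P) = ⟨a, ha'⟩ * ⟨b, hb'⟩ := rfl
      rw [this, map_mul, mul_pow, iha ha', ihb hb', one_mul]
    | inv a ha iha =>
      intro hai
      have ha' : a ∈ P := (Subgroup.closure_le P).2 hS ha
      have : (⟨a⁻¹, hai⟩ : P) = (⟨a, ha'⟩ : P)⁻¹ := rfl
      rw [this, map_inv, inv_pow, iha ha', inv_one]
  exact key x (hP x.2) x.2

theorem sq_eq_one_of_invol {P : Type*} [Group P] (f : P →* ℂˣ) {x : P} (h : x * x = 1) : f x ^ 2 = 1 := by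
  rw [← map_pow, pow_two, h, map_one]

end Cfsg.Agent.H443.Sd.Tool
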